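import Groth.Agent.Stk19b.StalkPoint
import Groth.Agent.HenselLib.Pointed

/-!
The etale local ring of an algebraic space at a geometric point is the hull of an affine chart.
-/

set_option autoImplicit false
set_option backward.isDefEq.respectTransparency false
set_option backward.isDefEq.respectTransparency.types false

universe u

open CategoryTheory CategoryTheory.Limits AlgebraicGeometry Opposite
open AlgSp Groth.Agent.Stk19b.StalkPoint Groth.Agent.HenselLib

noncomputable section

namespace Groth.Agent.Stk19b.StalkHull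

variable {S : Scheme.{u}} {X : Sp S}

/-- An affine chart with a lift of the point. -/
theorem exists_affine_chart (hX : IsAlgSpace X) (p : FieldPt X) (hp : p.IsGeometric) :
    ∃ (R : CommRingCat.{u}) (j : Spec R ⟶ S) (a : (yon S).obj (Over.mk j) ⟶ X)
      (v : p.pt ⟶ Over.mk j), RepWith @Etale a ∧ (yon S).map v ≫ a = p.toHom := by
  obtain ⟨U, a, hae, has⟩ := hX.atlas
  obtain ⟨u, hu⟩ := AlgSpLib.surjective_ofPt a has (Points.mk p)
  obtain ⟨R, i, hi, hur, -⟩ := Scheme.exists_affine_mem_range_and_range_subset (x := u) (U := ⊤) trivial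
  obtain ⟨t, ht⟩ := hur
  let c : Over.mk (i ≫ U.hom) ⟶ U := Over.homMk i rfl
  have hc : RepWith @Etale ((yon S).map c ≫ a) :=
    (repWith_isMultiplicative (S := S) @Etale).comp_mem _ _
      ((repWith_yon_map_iff _ _).2 (inferInstance : Etale i)) hae
  obtain ⟨v, hv, -⟩ := EtNbhd.exists_lift p hp _ hc t (by
    rw [AlgSpLib.ofPt_map, ← hu]
    exact congrArg _ ht)
  exact ⟨R, i ≫ U.hom, _, v, hc, hv⟩

variable (hX : IsAlgSpace X) {p : FieldPt X} (hp : p.IsGeometric) {R : CommRingCat.{u}}
  {j : Spec R ⟶ S} (a : (yon S).obj (Over.mk j) ⟶ X) (ha : RepWith @Etale a) (v : p.pt ⟶ Over.mk j)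
  (hv : (yon S).map v ≫ a = p.toHom)

/-- The ring map of the lift. -/
def chartPt : R →+* p.K := (Spec.preimage v.left).hom

theorem spec_chartPt : Spec.map (CommRingCat.ofHom (chartPt v)) = v.left := Spec.map_preimage _

variable {v} [Algebra R p.K] (halg : algebraMap R p.K = chartPt v)
  {A : Type u} [CommRing A] [Algebra R A]

/-- The affine neighbourhood attached to an etale algebra. -/
def objOver (A : Type u) [CommRing A] [Algebra R A] : Over S :=
  Over.mk (Spec.map (CommRingCat.ofHom (algebraMap R A)) ≫ j)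

def objHom (A : Type u) [CommRing A] [Algebra R A] : objOver (j := j) A ⟶ Over.mk j :=
  Over.homMk (Spec.map (CommRingCat.ofHom (algebraMap R A))) rfl

omit [Algebra R p.K] in
include ha in
theorem repWith_obj [Algebra.Etale R A] : RepWith @Etale ((yon S).map (objHom (j := j) A) ≫ a) :=
  (repWith_isMultiplicative (S := S) @Etale).comp_mem _ _
    ((repWith_yon_map_iff _ _).2 (HasRingHomProperty.Spec_iff.2
      (RingHom.etale_algebraMap.2 (inferInstance : Algebra.Etale R A)))) ha

/-- The object of the small etale site attached to an etale algebra. -/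
def obj (A : Type u) [CommRing A] [Algebra R A] [Algebra.Etale R A] : EtOver X :=
  EtOver.mk ((yon S).map (objHom (j := j) A) ≫ a) (repWith_obj a ha)

include halg in
theorem spec_pt_comp (σ : A →ₐ[R] p.K) :
    Spec.map (CommRingCat.ofHom σ.toRingHom) ≫ Spec.map (CommRingCat.ofHom (algebraMap R A)) = v.left := by
  rw [← Spec.map_comp, ← spec_chartPt v, ← halg, ← CommRingCat.ofHom_comp]
  congr 2
  exact σ.comp_algebraMap

/-- The lift of the point to the neighbourhood. -/
def objPt [Algebra.Etale R A] (σ : A →ₐ[R] p.K) : (FieldPt.liftsTo p).obj (obj a ha A) :=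
  ⟨Over.homMk (Spec.map (CommRingCat.ofHom σ.toRingHom)) (by
      show _ ≫ _ ≫ j = p.str
      rw [← Category.assoc, spec_pt_comp halg]
      exact Over.w v), by
    show (yon S).map _ ≫ (yon S).map (objHom (j := j) A) ≫ a = p.toHom
    rw [← Category.assoc, ← Functor.map_comp, ← hv]
    congr 2
    exact Over.OverMorphism.ext (spec_pt_comp halg σ)⟩

/-- The map of an etale algebra with a point to the stalk. -/
def stalkMap [Algebra.Etale R A] (σ : A →ₐ[R] p.K) : A →+* ↥(OEtStalk p) :=
  ((stalkEtι p (OEt X) ((FieldPt.liftsTo p).elementsMk (obj a ha A) (objPt a ha hv halg σ))).hom.comp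
    ((ULift.ringEquiv.{u, u + 1} : ULift.{u + 1} Γ(Spec (CommRingCat.of A), ⊤) ≃+* _).symm.toRingHom.comp
      (Scheme.ΓSpecIso (CommRingCat.of A)).inv.hom))

theorem stalkMap_naturality {B : Type u} [CommRing B] [Algebra R B] [Algebra.Etale R A]
    [Algebra.Etale R B] (σ : A →ₐ[R] p.K) (τ : B →ₐ[R] p.K) (g : A →ₐ[R] B) (h : τ.comp g = σ) (x : A) :
    stalkMap a ha hv halg τ (g x) = stalkMap a ha hv halg σ x := by
  let i : objOver (j := j) B ⟶ objOver (j := j) A := Over.homMk (Spec.map (CommRingCat.ofHom g.toRingHom)) (by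
    show _ ≫ _ ≫ j = _ ≫ j
    rw [← Category.assoc, ← Spec.map_comp, ← CommRingCat.ofHom_comp]
    congr 3
    exact g.comp_algebraMap)
  have hi : i ≫ objHom (j := j) A = objHom (j := j) B := Over.OverMorphism.ext (by
    show Spec.map _ ≫ Spec.map _ = Spec.map _
    rw [← Spec.map_comp, ← CommRingCat.ofHom_comp]
    congr 2
    exact g.comp_algebraMap)
  let f : (((FieldPt.liftsTo p).elementsMk (obj a ha B) (objPt a ha hv halg τ)) : EtNbhd p) ⟶ ((FieldPt.liftsTo p).elementsMk (obj a ha A) (objPt a ha hv halg σ)) :=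
    ⟨EtOver.homMk i (by
      show (yon S).map i ≫ (yon S).map (objHom (j := j) A) ≫ a = (yon S).map (objHom (j := j) B) ≫ a
      rw [← Category.assoc, ← Functor.map_comp, hi]), Subtype.ext (Over.OverMorphism.ext (by
      show Spec.map _ ≫ Spec.map _ = Spec.map _
      rw [← Spec.map_comp, ← CommRingCat.ofHom_comp, ← h]
      rfl))⟩
  have hw := colimit.w (stalkEtDiagram p (OEt X)) f.op
  have hn := congrArg (fun φ => φ.hom x) (Scheme.ΓSpecIso_inv_naturality (CommRingCat.ofHom g.toRingHom))
  show (colimit.ι (stalkEtDiagram p (OEt X)) (op ((FieldPt.liftsTo p).elementsMk (obj a ha B) (objPt a ha hv halg τ)))).hom _ =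
    (colimit.ι (stalkEtDiagram p (OEt X)) (op ((FieldPt.liftsTo p).elementsMk (obj a ha A) (objPt a ha hv halg σ)))).hom _
  rw [← hw]
  simp only [CommRingCat.hom_comp, RingHom.comp_apply] at hn ⊢
  congr 1
  exact ULift.ext _ _ hn

include hX hp in
/-- Every section of a neighbourhood is seen on an affine neighbourhood over the chart. -/
theorem exists_affine_refine (E : EtOver X) (y : (FieldPt.liftsTo p).obj E)
    (c : E.obj.left ⟶ Over.mk j) (hc : (yon S).map c ≫ a = E.obj.hom) (hy : y.1 ≫ c = v) :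
    ∃ (B : CommRingCat.{u}) (i : Spec B ⟶ E.obj.left.left) (_ : Algebra R B) (_ : Algebra.Etale R B)
      (σ : B →ₐ[R] p.K) (g : obj a ha B ⟶ E),
      g.hom.left.left = i ∧ Spec.map (CommRingCat.ofHom (algebraMap R B)) = i ≫ c.left ∧
      (FieldPt.liftsTo p).map g (objPt a ha hv halg σ) = y := by
  have hce : Etale c.left :=
    EtOver.etale_left (EtOver.homMk c hc : E ⟶ EtOver.mk a ha)
  obtain ⟨B, i, hi, hB, -⟩ := Scheme.exists_affine_mem_range_and_range_subset
    (x := y.1.left (IsLocalRing.closedPoint p.K)) (U := ⊤) trivial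
  have hr : Set.range y.1.left ⊆ Set.range i := by
    have : Subsingleton ↥p.pt.left := inferInstanceAs (Subsingleton ↥(Spec (CommRingCat.of p.K)))
    rintro _ ⟨t, rfl⟩
    rwa [show t = IsLocalRing.closedPoint p.K from Subsingleton.elim _ _]
  let l : Spec (CommRingCat.of p.K) ⟶ Spec B := IsOpenImmersion.lift i y.1.left hr
  letI : Algebra R B := (Spec.preimage (i ≫ c.left)).hom.toAlgebra
  have hBeq : Spec.map (CommRingCat.ofHom (algebraMap R B)) = i ≫ c.left := Spec.map_preimage _
  have hBe : Algebra.Etale R B := by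
    refine RingHom.etale_algebraMap.1 ((HasRingHomProperty.Spec_iff (P := @Etale)).1 ?_)
    show Etale (Spec.map (CommRingCat.ofHom (algebraMap R B)))
    rw [hBeq]
    infer_instance
  let s : B →+* p.K := (Spec.preimage l).hom
  have hls : Spec.map (CommRingCat.ofHom s) = l := Spec.map_preimage _
  have hs : s.comp (algebraMap R B) = algebraMap R p.K := by
    have : Spec.map (CommRingCat.ofHom (s.comp (algebraMap R B))) = Spec.map (CommRingCat.ofHom (algebraMap R p.K)) := by
      rw [CommRingCat.ofHom_comp, Spec.map_comp, hls, hBeq, halg, spec_chartPt,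
        IsOpenImmersion.lift_fac_assoc, ← hy]
      rfl
    exact congrArg CommRingCat.Hom.hom (Spec.map_injective this)
  let σ : B →ₐ[R] p.K := { s with commutes' := RingHom.congr_fun hs }
  let io : objOver (j := j) B ⟶ E.obj.left := Over.homMk i (by
    show i ≫ E.obj.left.hom = _ ≫ j
    rw [hBeq, Category.assoc, ← Over.w c]
    rfl)
  refine ⟨B, i, inferInstance, hBe, σ, EtOver.homMk io ?_, rfl, hBeq, ?_⟩
  · show (yon S).map io ≫ E.obj.hom = (yon S).map (objHom (j := j) B) ≫ a
    rw [← hc, ← Category.assoc, ← Functor.map_comp]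
    congr 2
    exact Over.OverMorphism.ext hBeq.symm
  · refine Subtype.ext (Over.OverMorphism.ext ?_)
    show Spec.map (CommRingCat.ofHom s) ≫ i = y.1.left
    rw [hls]
    exact IsOpenImmersion.lift_fac _ _ _

include hX hp in
theorem exists_rep_stalk (z : ↥(OEtStalk p)) :
    ∃ (P : Pt R p.K) (x : P.Ring), stalkMap a ha hv halg P.pt x = z := by
  let Φ := EtNbhd.point hX p hp
  obtain ⟨E, y, s, rfl⟩ := Φ.toPresheafFiber_jointly_surjective (P := (OEt X).obj) z
  obtain ⟨E₀, f₁, f₂, w, hw1, hw2⟩ : ∃ (E₀ : EtOver X) (f₁ : E₀ ⟶ EtOver.mk a ha) (f₂ : E₀ ⟶ E)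
      (w : (FieldPt.liftsTo p).obj E₀), (FieldPt.liftsTo p).map f₁ w = ⟨v, hv⟩ ∧
        (FieldPt.liftsTo p).map f₂ w = y := by
    obtain ⟨w, h1, h2⟩ := EtNbhd.exists_prod_lift (p := p) ⟨EtOver.mk a ha, ⟨v, hv⟩⟩ ⟨E, y⟩
    exact ⟨_, _, _, w, h1, h2⟩
  obtain ⟨B, i, _, _, σ, g, hgi, -, hg⟩ := exists_affine_refine hX hp a ha hv halg E₀ w f₁.hom.left
    (EtOver.w f₁) (congrArg Subtype.val hw1)
  let f : obj a ha B ⟶ E := g ≫ f₂
  have hf : (FieldPt.liftsTo p).map f (objPt a ha hv halg σ) = y := by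
    rw [Functor.map_comp_apply, hg, hw2]
  obtain ⟨P, e, he⟩ := Pt.exists_equiv B σ
  refine ⟨P, e.symm ((Scheme.ΓSpecIso B).hom.hom ((OEt X).obj.map f.op s).down), ?_⟩
  refine (stalkMap_naturality a ha hv halg σ P.pt e.symm.toAlgHom
    (AlgHom.ext fun b => by simp [← he]) _).trans ?_
  have h1 := Φ.toPresheafFiber_w_apply f (objPt a ha hv halg σ) (OEt X).obj s
  rw [← hf]
  refine Eq.trans ?_ h1
  show (colimit.ι (stalkEtDiagram p (OEt X)) (op ((FieldPt.liftsTo p).elementsMk (obj a ha B) (objPt a ha hv halg σ)))).hom _ =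
    (colimit.ι (stalkEtDiagram p (OEt X)) (op ((FieldPt.liftsTo p).elementsMk (obj a ha B) (objPt a ha hv halg σ)))).hom _
  congr 1
  refine ULift.ext _ _ ?_
  show (Scheme.ΓSpecIso B).inv.hom ((Scheme.ΓSpecIso B).hom.hom _) = _
  rw [← RingHom.comp_apply, ← CommRingCat.hom_comp, Iso.hom_inv_id]
  rfl

include hX hp in
theorem exists_kill (P : Pt R p.K) (x : P.Ring) (h : stalkMap a ha hv halg P.pt x = 0) :
    ∃ (Q : Pt R p.K) (g : P ⟶ Q), g.map x = 0 := by
  let Φ := EtNbhd.point hX p hp
  let s : ↥((OEt X).obj.obj (op (obj a ha P.Ring))) :=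
    ULift.up ((Scheme.ΓSpecIso (CommRingCat.of P.Ring)).inv.hom x)
  have h' : Φ.toPresheafFiber _ (objPt a ha hv halg P.pt) (OEt X).obj s =
      Φ.toPresheafFiber _ (objPt a ha hv halg P.pt) (OEt X).obj 0 := by
    rw [map_zero]; exact h
  obtain ⟨E, f, y, hy, hf⟩ := (Φ.toPresheafFiber_eq_iff' _ _ _ _).1 h'
  rw [map_zero] at hf
  obtain ⟨B, i, _, _, σ, g, hgi, hB, hg⟩ := exists_affine_refine hX hp a ha hv halg E y
    (f.hom.left ≫ objHom (j := j) P.Ring)
    (by rw [Functor.map_comp, Category.assoc]; exact EtOver.w f)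
    (by
      rw [← Category.assoc]
      apply Over.OverMorphism.ext
      refine Eq.trans ?_ (spec_pt_comp halg P.pt)
      exact congrArg (· ≫ Spec.map (CommRingCat.ofHom (algebraMap R P.Ring)))
        (congrArg (fun q => q.1.left) hy))
  let k : Spec B ⟶ Spec (CommRingCat.of P.Ring) := i ≫ f.hom.left.left
  let ψ : P.Ring →+* B := (Spec.preimage k).hom
  have hk : Spec.map (CommRingCat.ofHom ψ) = k := Spec.map_preimage _
  have hψ : ψ.comp (algebraMap R P.Ring) = algebraMap R B := by
    have : Spec.map (CommRingCat.ofHom (ψ.comp (algebraMap R P.Ring))) =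
        Spec.map (CommRingCat.ofHom (algebraMap R B)) := by
      rw [CommRingCat.ofHom_comp, Spec.map_comp, hk, hB, Category.assoc]
      rfl
    exact congrArg CommRingCat.Hom.hom (Spec.map_injective this)
  let ψa : P.Ring →ₐ[R] B := { ψ with commutes' := RingHom.congr_fun hψ }
  have hσψ : σ.comp ψa = P.pt := by
    have : Spec.map (CommRingCat.ofHom (σ.toRingHom.comp ψ)) = Spec.map (CommRingCat.ofHom P.pt.toRingHom) := by
      rw [CommRingCat.ofHom_comp, Spec.map_comp, hk]
      have e1 := congrArg (fun q => q.1.left) hy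
      have e2 := congrArg (fun q => q.1.left) hg
      show Spec.map _ ≫ i ≫ f.hom.left.left = _
      rw [← hgi, ← Category.assoc]
      exact (congrArg (· ≫ f.hom.left.left) e2).trans e1
    exact AlgHom.ext fun b => RingHom.congr_fun (congrArg CommRingCat.Hom.hom (Spec.map_injective this)) b
  have hzero : ψ x = 0 := by
    have h2 := congrArg ULift.down (congrArg ((OEt X).obj.map g.op).hom hf)
    rw [map_zero, OEt_map, OEt_map, hgi, ← CommRingCat.comp_apply, ← Scheme.Hom.comp_appTop] at h2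
    have hn := congrArg (fun φ => φ.hom x) (Scheme.ΓSpecIso_inv_naturality (CommRingCat.ofHom ψ))
    simp only [CommRingCat.hom_comp, RingHom.comp_apply] at hn
    rw [hk] at hn
    have h3 : (Scheme.ΓSpecIso B).inv.hom (ψ x) = 0 := hn.trans h2
    simpa using congrArg (Scheme.ΓSpecIso B).hom.hom h3
  obtain ⟨Q, q, e, -, hq⟩ := P.exists_hom σ ψa hσψ
  refine ⟨Q, q, ?_⟩
  rw [hq]
  show e.symm (ψ x) = 0
  rw [hzero, map_zero]

include hX hp ha hv halg in
theorem nonempty_ringEquiv : Nonempty (Hull R p.K ≃+* ↥(OEtStalk p)) := by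
  choose P x hPx using fun h : Hull R p.K => exists_rep h
  let Φ : Hull R p.K → ↥(OEtStalk p) := fun h => stalkMap a ha hv halg (P h).pt (x h)
  have key : ∀ (Q : Pt R p.K) (y : Q.Ring), Φ (ι Q y) = stalkMap a ha hv halg Q.pt y := by
    intro Q y
    obtain ⟨T, f, g, h⟩ := (exists_eq_iff _ _).1 (hPx (ι Q y))
    show stalkMap a ha hv halg _ _ = _
    rw [← stalkMap_naturality a ha hv halg _ T.pt f.map f.comm, h,
      stalkMap_naturality a ha hv halg _ T.pt g.map g.comm]
  let φ : Hull R p.K →+* ↥(OEtStalk p) :=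
    { toFun := Φ
      map_one' := by
        obtain ⟨Q, -⟩ := exists_base (R := R) (K := p.K)
        rw [← map_one (ι Q), key, map_one]
      map_zero' := by
        obtain ⟨Q, -⟩ := exists_base (R := R) (K := p.K)
        rw [← map_zero (ι Q), key, map_zero]
      map_mul' := fun h h' => by
        obtain ⟨Q, y, y', rfl, rfl⟩ := exists_rep₂ h h'
        rw [← map_mul, key, key, key, map_mul]
      map_add' := fun h h' => by
        obtain ⟨Q, y, y', rfl, rfl⟩ := exists_rep₂ h h'
        rw [← map_add, key, key, key, map_add] }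
  refine ⟨RingEquiv.ofBijective φ ⟨(injective_iff_map_eq_zero φ).2 fun h hh => ?_, fun z => ?_⟩⟩
  · obtain ⟨Q, y, rfl⟩ := exists_rep h
    obtain ⟨T, g, hg⟩ := exists_kill hX hp a ha hv halg Q y ((key Q y).symm.trans hh)
    exact (exists_eq_zero_iff y).2 ⟨T, g, hg⟩
  · obtain ⟨Q, y, rfl⟩ := exists_rep_stalk hX hp a ha hv halg z
    exact ⟨ι Q y, key Q y⟩

end Groth.Agent.Stk19b.StalkHull
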