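import Groth.Agent.Stk19b.Stalk.HullGeom
import Groth.Agent.Stk19b.Stalk.StalkHull
import Groth.Agent.Stk19b.EtaleDim
import Groth.Agent.HenselLib.HullProps
import Groth.Agent.Et18.EtaleLocalRing

/-!
Properties of the etale local rings of algebraic spaces.
-/

set_option autoImplicit false
set_option backward.isDefEq.respectTransparency false
set_option backward.isDefEq.respectTransparency.types false

universe u v

open CategoryTheory CategoryTheory.Limits AlgebraicGeometry Opposite IsLocalRing Polynomial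
open AlgSp Groth.Agent.Stk19b.StalkPoint Groth.Agent.HenselLib

noncomputable section

namespace Groth.Agent.Stk19b.StalkProps

variable {S : Scheme.{u}} {X : Sp S}

theorem exists_package (hX : IsAlgSpace X) (p : FieldPt X) (hp : p.IsGeometric) :
    ∃ (U : Over S) (a : (yon S).obj U ⟶ X) (u : ↥U.left) (H : CommRingCat.{u}),
      RepWith @Etale a ∧ Points.ofPt a u = Points.mk p ∧ Nonempty (H ≃+* ↥(OEtStalk p)) ∧
      IsLocalRing H ∧ EtCoh.IsStrictlyHenselianLocalRing H ∧
      ringKrullDim H = ringKrullDim (U.left.presheaf.stalk u) ∧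
      (_root_.IsReduced H ↔ _root_.IsReduced (U.left.presheaf.stalk u)) ∧
      (IsNoetherianRing H ↔ IsNoetherianRing (U.left.presheaf.stalk u)) ∧
      (IsRegularLocalRing H ↔ IsRegularLocalRing (U.left.presheaf.stalk u)) := by
  obtain ⟨R, j, a, v, ha, hv⟩ := StalkHull.exists_affine_chart hX p hp
  letI : Algebra R p.K := (StalkHull.chartPt v).toAlgebra
  obtain ⟨e⟩ := StalkHull.nonempty_ringEquiv hX hp a ha hv rfl
  let u : Spec R := v.left (IsLocalRing.closedPoint p.K)
  have hu : RingHom.ker (algebraMap R p.K) = u.asIdeal := by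
    have h : u = PrimeSpectrum.comap (StalkHull.chartPt v) (IsLocalRing.closedPoint p.K) := by
      show v.left _ = _
      rw [← StalkHull.spec_chartPt v]
      rfl
    rw [h, PrimeSpectrum.comap_asIdeal, RingHom.ker_eq_comap_bot,
      show (IsLocalRing.closedPoint p.K).asIdeal = ⊥ from IsLocalRing.maximalIdeal_eq_bot]
    rfl
  letI : Algebra R ((Spec R).presheaf.stalk u) := StructureSheaf.stalkAlgebra R u
  have : IsLocalization.AtPrime ((Spec R).presheaf.stalk u) u.asIdeal :=
    StructureSheaf.IsLocalization.to_stalk R u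
  have : IsAlgClosed p.K := hp
  refine ⟨Over.mk j, a, u, CommRingCat.of (Hull R p.K), ha, ?_, ⟨e⟩, isLocalRing_hull,
    HullGeom.isStrictlyHenselian,
    HullGeom.ringKrullDim_eq u.asIdeal hu ((Spec R).presheaf.stalk u), HullGeom.isReduced_iff u.asIdeal hu ((Spec R).presheaf.stalk u),
    HullGeom.isNoetherianRing_iff u.asIdeal hu ((Spec R).presheaf.stalk u), HullGeom.isRegularLocalRing_iff u.asIdeal hu ((Spec R).presheaf.stalk u)⟩
  rw [← EtNbhd.ofPt_toHom p (IsLocalRing.closedPoint p.K), ← hv, AlgSpLib.ofPt_map]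

theorem isStrictlyHenselian_of_equiv {A : Type u} {B : Type v} [CommRing A] [CommRing B] (e : A ≃+* B)
    (h : EtCoh.IsStrictlyHenselianLocalRing A) : EtCoh.IsStrictlyHenselianLocalRing B := by
  obtain ⟨hA, hsep⟩ := h
  have := hA
  have := hsep
  have : Nontrivial B := e.injective.nontrivial
  have : IsLocalRing B := IsLocalRing.of_surjective' e.toRingHom e.surjective
  have hB : HenselianLocalRing B := {
    is_henselian := fun f hf b₀ h₁ h₂ => by
      obtain ⟨g, rfl⟩ : ∃ g : A[X], g.map e.toRingHom = f :=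
        Polynomial.map_surjective _ e.surjective f
      obtain ⟨a₀, rfl⟩ := e.surjective b₀
      have hgm : g.Monic := monic_of_injective e.injective hf
      rw [IsLocalRing.mem_maximalIdeal, mem_nonunits_iff, show e a₀ = e.toRingHom a₀ from rfl, Polynomial.eval_map,
        eval₂_hom] at h₁
      rw [Polynomial.derivative_map, show e a₀ = e.toRingHom a₀ from rfl, Polynomial.eval_map, eval₂_hom] at h₂
      obtain ⟨a, ha, ha'⟩ := HenselianLocalRing.is_henselian g hgm a₀
        (fun hu => h₁ (hu.map e.toRingHom)) (by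
          simpa using h₂.map e.symm.toRingHom)
      refine ⟨e a, ha.map, fun hu => ha' ?_⟩
      simpa using hu.map e.symm.toRingHom }
  refine ⟨hB, IsSepClosed.of_exists_root _ fun p hm hirr hs => ?_⟩
  let r := IsLocalRing.ResidueField.mapEquiv e
  obtain ⟨a, ha⟩ := IsSepClosed.exists_root (p.map r.symm.toRingHom) (by
    rw [degree_map]; exact (degree_pos_of_irreducible hirr).ne') hs.map
  refine ⟨r a, ?_⟩
  have h' := ha.map (f := r.toRingHom)
  rwa [Polynomial.map_map, RingEquiv.toRingHom_comp_symm_toRingHom, Polynomial.map_id] at h'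

theorem isRegularLocalRing_of_equiv {A : Type u} {B : Type v} [CommRing A] [CommRing B] (e : A ≃+* B)
    (h : IsRegularLocalRing A) : IsRegularLocalRing B :=
  have := h
  IsRegularLocalRing.of_ringEquiv e

theorem isNoetherianRing_stalk_iff {A B : Scheme.{u}} (c : A ⟶ B) [Etale c] (x : A) :
    IsNoetherianRing (A.presheaf.stalk x) ↔ IsNoetherianRing (B.presheaf.stalk (c x)) := by
  constructor
  · intro h
    letI := (c.stalkMap x).hom.toAlgebra
    have : Module.FaithfullyFlat (B.presheaf.stalk (c x)) (A.presheaf.stalk x) :=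
      Et18.faithfullyFlat_stalk_of_etale c x
    exact isNoetherianRing_of_faithfullyFlat _ (A.presheaf.stalk x)
  · intro h
    obtain ⟨C, _, _, _, q, _, ⟨e⟩⟩ := Et18.exists_etale_localization c x
    have : IsNoetherianRing C := Algebra.FiniteType.isNoetherianRing (B.presheaf.stalk (c x)) C
    have : IsNoetherianRing (Localization.AtPrime q) :=
      IsLocalization.isNoetherianRing q.primeCompl _ inferInstance
    exact isNoetherianRing_of_ringEquiv _ e

theorem isRegularLocalRing_stalk_iff {A B : Scheme.{u}} (c : A ⟶ B) [Etale c] (x : A) :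
    IsRegularLocalRing (A.presheaf.stalk x) ↔ IsRegularLocalRing (B.presheaf.stalk (c x)) := by
  by_cases hN : IsNoetherianRing (B.presheaf.stalk (c x))
  · have := (isNoetherianRing_stalk_iff c x).2 hN
    obtain ⟨hf, hm⟩ := Et18.stalkMap_flat_and_map_maximalIdeal c x
    algebraize [(c.stalkMap x).hom]
    have : IsLocalHom (algebraMap (B.presheaf.stalk (c x)) (A.presheaf.stalk x)) :=
      inferInstanceAs (IsLocalHom (c.stalkMap x).hom)
    exact (isRegularLocalRing_iff_of_flat (A.presheaf.stalk x) hm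
      (EtaleDim.ringKrullDim_stalk_eq c x).symm).symm
  · refine ⟨fun h => absurd ?_ hN, fun h => absurd h.toIsNoetherian hN⟩
    exact (isNoetherianRing_stalk_iff c x).1 h.toIsNoetherian

theorem isNoetherianRing_stalk (hX : IsAlgSpace X) (h : IsLocNoethSp X) {U : Over S}
    (a : (yon S).obj U ⟶ X) (ha : RepWith @Etale a) (u : ↥U.left) :
    IsNoetherianRing (U.left.presheaf.stalk u) := by
  obtain ⟨V, b, hbe, hbs, hV⟩ := h
  obtain ⟨v, hv⟩ := AlgSpLib.surjective_ofPt b hbs (Points.ofPt a u)
  obtain ⟨W, f, g, r, hf, hg, rfl, rfl⟩ := AlgSpLib.exists_common_chart hX hbe ha hv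
  have : Etale f.left := hf
  have : Etale g.left := hg
  have : IsLocallyNoetherian V.left := hV
  exact (isNoetherianRing_stalk_iff g.left r).1 ((isNoetherianRing_stalk_iff f.left r).2 inferInstance)

theorem hasAt_iff_of_chart (hX : IsAlgSpace X) (Q : ∀ U : Scheme.{u}, ↥U → Prop)
    (hQ : ∀ {A B : Scheme.{u}} (c : A ⟶ B) [Etale c] (a : A), Q A a ↔ Q B (c a))
    {U : Over S} {a : (yon S).obj U ⟶ X} (ha : RepWith @Etale a) (u : ↥U.left) :
    HasAt Q X (Points.ofPt a u) ↔ Q U.left u := by
  refine ⟨?_, fun h => ⟨U, a, u, ha, rfl, h⟩⟩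
  rintro ⟨V, b, v, hb, e, h⟩
  obtain ⟨W, f, g, r, hf, hg, rfl, rfl⟩ := AlgSpLib.exists_common_chart hX hb ha e
  have : Etale f.left := hf
  have : Etale g.left := hg
  exact (hQ g.left r).1 ((hQ f.left r).2 h)

theorem regular_iff (hX : IsAlgSpace X) (p : FieldPt X) (hp : p.IsGeometric) :
    HasAt (fun U u => IsRegularLocalRing ↥(U.presheaf.stalk u)) X (Points.mk p) ↔
      IsRegularLocalRing ↥(OEtStalk p) := by
  obtain ⟨U, a, u, H, ha, hu, ⟨e⟩, -, -, -, -, -, hreg⟩ := exists_package hX p hp
  rw [← hu, hasAt_iff_of_chart hX (fun U u => IsRegularLocalRing ↥(U.presheaf.stalk u))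
    (fun c _ x => isRegularLocalRing_stalk_iff c x) ha u, ← hreg]
  exact ⟨isRegularLocalRing_of_equiv e, isRegularLocalRing_of_equiv e.symm⟩

end Groth.Agent.Stk19b.StalkProps
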