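import Groth.Agent.Stk19b.Stalk.StalkHull
import Groth.Agent.Stk19b.StalkSupport
import Groth.Agent.AlgSpLib.ElemBranches
import Groth.Agent.EGA43.BranchCount.EtaleNbhd
import Groth.Agent.Unibr10.Branches
import Groth.Prelude.Def_CAlgX

/-!
Geometric branches of the charts of an algebraic space and minimal primes of the etale local rings.
-/

set_option autoImplicit false
set_option backward.isDefEq.respectTransparency false
set_option backward.isDefEq.respectTransparency.types false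
set_option linter.style.haveILetI false

universe u v

open CategoryTheory CategoryTheory.Limits AlgebraicGeometry Opposite IsLocalRing
open AlgSp Groth.Agent.Stk19b.StalkPoint Groth.Agent.HenselLib Groth.Agent.EGA43.BranchCount
open Groth.Agent.EGA43.UnibranchEtaleNbhd

noncomputable section

namespace Groth.Agent.Stk19b.StalkBranches

theorem encard_congr {R : Type u} {A : Type v} [CommRing R] [CommRing A] (e : R ≃+* A) :
    (minimalPrimes R).encard = (minimalPrimes A).encard := by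
  have h : minimalPrimes R = Ideal.comap e.toRingHom '' minimalPrimes A := by
    show (⊥ : Ideal R).minimalPrimes = Ideal.comap e.toRingHom '' (⊥ : Ideal A).minimalPrimes
    rw [← Ideal.comap_minimalPrimes_eq_of_surjective (f := e.toRingHom) e.surjective,
      Ideal.comap_bot_of_injective e.toRingHom e.injective]
  rw [h, (Ideal.comap_injective_of_surjective e.toRingHom e.surjective).injOn.encard_image]

/-- The hull at any separably closed point over `x` counts the geometric branches. -/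
theorem encard_hull_eq {X : Scheme.{u}} {x : X} {W : X.Opens} (hW : IsAffineOpen W) (hxW : x ∈ W)
    (K : Type u) [Field K] [IsSepClosed K] [Algebra Γ(X, W) K]
    (hker : RingHom.ker (algebraMap Γ(X, W) K) = (hW.primeIdealOf ⟨x, hxW⟩).asIdeal) :
    (minimalPrimes (Hull Γ(X, W) K)).encard = Brnch.numGeomBranchesAt X x := by
  rw [numGeomBranchesAt_eq_iSup]
  refine le_antisymm ?_ (iSup_le fun U => iSup_le fun g => iSup_le fun u => iSup_le fun hg => ?_)
  · rw [encard_minimalPrimes_hull]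
    refine iSup_le fun T => ?_
    haveI : (RingHom.ker T.pt).IsPrime := RingHom.ker_isPrime _
    haveI := etale_chart hW T.Ring
    refine le_iSup_of_le (Spec (CommRingCat.of T.Ring)) <|
      le_iSup_of_le (Spec.map (CommRingCat.ofHom (algebraMap Γ(X, W) T.Ring)) ≫ hW.fromSpec) <|
      le_iSup_of_le (⟨RingHom.ker T.pt, inferInstance⟩ : PrimeSpectrum T.Ring) <|
      le_iSup_of_le ⟨inferInstance, ?_⟩ (encard_components_spec T.Ring (RingHom.ker T.pt)).ge
    rw [Scheme.Hom.comp_apply]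
    have h : Spec.map (CommRingCat.ofHom (algebraMap Γ(X, W) T.Ring))
        (⟨RingHom.ker T.pt, inferInstance⟩ : PrimeSpectrum T.Ring) = hW.primeIdealOf ⟨x, hxW⟩ := by
      refine PrimeSpectrum.ext ?_
      rw [← hker]
      ext r
      show T.pt (algebraMap Γ(X, W) T.Ring r) = 0 ↔ _
      rw [T.pt.commutes]
      rfl
    exact (congrArg hW.fromSpec h).trans (hW.fromSpec_primeIdealOf ⟨x, hxW⟩)
  · obtain ⟨hge, rfl⟩ := hg
    haveI := hge
    obtain ⟨N, hN, huN, e⟩ := exists_isAffineOpen_mem_and_subset (x := u) (U := g ⁻¹ᵁ W) hxW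
    algebraize [(g.appLE W N e).hom]
    haveI : Algebra.Etale Γ(X, W) Γ(U, N) := by
      have := HasRingHomProperty.appLE (P := @Etale) g inferInstance ⟨W, hW⟩ ⟨N, hN⟩ e
      exact RingHom.etale_algebraMap.1 this
    obtain ⟨σ, hσ⟩ := exists_algHom_ker_eq (R := Γ(X, W)) (K := K) (hN.primeIdealOf ⟨u, huN⟩).asIdeal
      (hker.trans (comap_primeIdealOf g e huN hW hN).symm)
    exact encard_components_le_hull hN huN σ hσ

variable {S : Scheme.{u}} {X : Sp S}

/-- Every chart through a geometric point has the number of minimal primes of the etale local ring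
as its number of geometric branches. -/
theorem encard_OEtStalk_eq (hX : IsAlgSpace X) (p : FieldPt X) (hp : p.IsGeometric) {U : Over S}
    (a : (yon S).obj U ⟶ X) (u : ↥U.left) (ha : RepWith @Etale a)
    (hu : Points.ofPt a u = Points.mk p) :
    (minimalPrimes ↥(OEtStalk p)).encard = Brnch.numGeomBranchesAt U.left u := by
  obtain ⟨W, hW, huW, -⟩ := exists_isAffineOpen_mem_and_subset (x := u) (U := ⊤) trivial
  let c : Over.mk (hW.fromSpec ≫ U.hom) ⟶ U := Over.homMk hW.fromSpec rfl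
  have hc : RepWith @Etale ((yon S).map c ≫ a) :=
    (repWith_isMultiplicative (S := S) @Etale).comp_mem _ _
      ((repWith_yon_map_iff _ _).2 (inferInstance : Etale hW.fromSpec)) ha
  let t : ↥(Over.mk (hW.fromSpec ≫ U.hom)).left := hW.primeIdealOf ⟨u, huW⟩
  obtain ⟨v, hv, hvt⟩ := EtNbhd.exists_lift p hp _ hc t (by
    rw [AlgSpLib.ofPt_map, ← hu]
    exact congrArg _ (hW.fromSpec_primeIdealOf ⟨u, huW⟩))
  letI : Algebra Γ(U.left, W) p.K := (StalkHull.chartPt v).toAlgebra
  obtain ⟨e⟩ := StalkHull.nonempty_ringEquiv hX hp _ hc hv rfl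
  have : IsAlgClosed p.K := hp
  rw [← encard_hull_eq hW huW p.K ?_]
  · exact (encard_congr e).symm
  · have h : hW.primeIdealOf ⟨u, huW⟩ =
        PrimeSpectrum.comap (StalkHull.chartPt v) (IsLocalRing.closedPoint p.K) := by
      refine hvt.symm.trans ?_
      rw [← StalkHull.spec_chartPt v]
      rfl
    rw [h, PrimeSpectrum.comap_asIdeal, RingHom.ker_eq_comap_bot,
      show (IsLocalRing.closedPoint p.K).asIdeal = ⊥ from IsLocalRing.maximalIdeal_eq_bot]
    rfl

theorem exists_chart (hX : IsAlgSpace X) (x : Points X) : ∃ (U : Over S) (a : (yon S).obj U ⟶ X)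
    (u : ↥U.left), RepWith @Etale a ∧ Points.ofPt a u = x := by
  obtain ⟨U, a, hae, has⟩ := hX.atlas
  obtain ⟨u, hu⟩ := AlgSpLib.surjective_ofPt a has x
  exact ⟨U, a, u, hae, hu⟩

/-- The common number of geometric branches. -/
theorem exists_count (hX : IsAlgSpace X) (x : Points X) : ∃ N : ℕ∞, 1 ≤ N ∧
    (∀ (U : Over S) (a : (yon S).obj U ⟶ X) (u : ↥U.left), RepWith @Etale a → Points.ofPt a u = x →
      Brnch.numGeomBranchesAt U.left u = N) ∧
    (∀ p : FieldPt X, p.IsGeometric → Points.mk p = x → (minimalPrimes ↥(OEtStalk p)).encard = N) ∧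
    (∀ (U : Over S) (a : (yon S).obj U ⟶ X) (u : ↥U.left), RepWith @Etale a → Points.ofPt a u = x →
      1 ≤ (minimalPrimes ↥(U.left.presheaf.stalk u)).encard ∧
      (minimalPrimes ↥(U.left.presheaf.stalk u)).encard ≤ N) ∧
    ∀ M : ℕ∞, (∀ (U : Over S) (a : (yon S).obj U ⟶ X) (u : ↥U.left), RepWith @Etale a →
      Points.ofPt a u = x → (minimalPrimes ↥(U.left.presheaf.stalk u)).encard ≤ M) → N ≤ M := by
  obtain ⟨U₀, a₀, u₀, ha₀, hu₀⟩ := exists_chart hX x
  obtain ⟨p₀, hp₀, hx₀⟩ := StalkSupport.exists_geometric_over hX x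
  have hN : ∀ (U : Over S) (a : (yon S).obj U ⟶ X) (u : ↥U.left), RepWith @Etale a →
      Points.ofPt a u = x → Brnch.numGeomBranchesAt U.left u = Brnch.numGeomBranchesAt U₀.left u₀ :=
    fun U a u ha hu => ((encard_OEtStalk_eq hX p₀ hp₀ a u ha (hu.trans hx₀.symm)).symm.trans
      (encard_OEtStalk_eq hX p₀ hp₀ a₀ u₀ ha₀ (hu₀.trans hx₀.symm)))
  have hle : ∀ {V : Scheme.{u}} (v : V),
      (minimalPrimes ↥(V.presheaf.stalk v)).encard ≤ Brnch.numGeomBranchesAt V v := fun {V} v => by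
    rw [← AlgSpLib.encard_components_eq_minimalPrimes_stalk, numGeomBranchesAt_eq_iSup]
    exact le_iSup_of_le V <| le_iSup_of_le (𝟙 V) <| le_iSup_of_le v <|
      le_iSup_of_le ⟨inferInstance, rfl⟩ le_rfl
  have h1 : ∀ {V : Scheme.{u}} (v : V), 1 ≤ (minimalPrimes ↥(V.presheaf.stalk v)).encard := fun v => by
    rw [← AlgSpLib.encard_components_eq_minimalPrimes_stalk]
    exact AlgSpLib.one_le_components v
  refine ⟨Brnch.numGeomBranchesAt U₀.left u₀, (h1 u₀).trans (hle u₀), hN,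
    fun p hp hx => encard_OEtStalk_eq hX p hp a₀ u₀ ha₀ (hu₀.trans hx.symm),
    fun U a u ha hu => ⟨h1 u, (hle u).trans (hN U a u ha hu).le⟩, fun M hM => ?_⟩
  rw [numGeomBranchesAt_eq_iSup]
  refine iSup_le fun V => iSup_le fun g => iSup_le fun v => iSup_le fun hg => ?_
  rw [AlgSpLib.encard_components_eq_minimalPrimes_stalk]
  let c : Over.mk (g ≫ U₀.hom) ⟶ U₀ := Over.homMk g rfl
  refine hM (Over.mk (g ≫ U₀.hom)) ((yon S).map c ≫ a₀) v
    ((repWith_isMultiplicative (S := S) @Etale).comp_mem _ _ ((repWith_yon_map_iff _ _).2 hg.1) ha₀) ?_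
  rw [AlgSpLib.ofPt_map, ← hu₀]
  exact congrArg _ hg.2

theorem hasUniqueMinimalPrime_iff {A : Type v} [CommRing A] :
    CAlgX.HasUniqueMinimalPrime A ↔ (minimalPrimes A).encard = 1 := by
  rw [Set.encard_eq_one]
  constructor
  · rintro ⟨P, hP, huq⟩
    exact ⟨P, Set.eq_singleton_iff_unique_mem.2 ⟨hP, huq⟩⟩
  · rintro ⟨P, hP⟩
    exact ⟨P, (Set.eq_singleton_iff_unique_mem.1 hP).1, (Set.eq_singleton_iff_unique_mem.1 hP).2⟩

theorem unique_iff (hX : IsAlgSpace X) (x : Points X) :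
    ((∀ (U : Over S) (a : (yon S).obj U ⟶ X) (u : ↥U.left), RepWith @Etale a → Points.ofPt a u = x →
        CAlgX.HasUniqueMinimalPrime ↥(U.left.presheaf.stalk u)) ↔
      (∀ (U : Over S) (a : (yon S).obj U ⟶ X) (u : ↥U.left), RepWith @Etale a → Points.ofPt a u = x →
        CAlg2.IsGeomUnibranch ↥(U.left.presheaf.stalk u))) ∧
    ((∀ (U : Over S) (a : (yon S).obj U ⟶ X) (u : ↥U.left), RepWith @Etale a → Points.ofPt a u = x →
        CAlgX.HasUniqueMinimalPrime ↥(U.left.presheaf.stalk u)) ↔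
      ∀ p : FieldPt X, p.IsGeometric → Points.mk p = x →
        CAlgX.HasUniqueMinimalPrime ↥(OEtStalk p)) := by
  simp only [hasUniqueMinimalPrime_iff, ← Unibr10.numGeomBranches_eq_one_iff]
  obtain ⟨N, hN1, hN, hp, hb, hsup⟩ := exists_count hX x
  have h1 : (∀ (U : Over S) (a : (yon S).obj U ⟶ X) (u : ↥U.left), RepWith @Etale a →
      Points.ofPt a u = x → (minimalPrimes ↥(U.left.presheaf.stalk u)).encard = 1) ↔ N = 1 :=
    ⟨fun h => le_antisymm (hsup 1 fun U a u ha hu => (h U a u ha hu).le) hN1,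
      fun h U a u ha hu => le_antisymm ((hb U a u ha hu).2.trans h.le) (hb U a u ha hu).1⟩
  obtain ⟨U₀, a₀, u₀, ha₀, hu₀⟩ := exists_chart hX x
  obtain ⟨p₀, hp₀, hx₀⟩ := StalkSupport.exists_geometric_over hX x
  rw [h1]
  exact ⟨⟨fun h U a u ha hu => (hN U a u ha hu).trans h,
      fun h => (hN U₀ a₀ u₀ ha₀ hu₀).symm.trans (h U₀ a₀ u₀ ha₀ hu₀)⟩,
    ⟨fun h p hpg hx => (hp p hpg hx).trans h,
      fun h => (hp p₀ hp₀ hx₀).symm.trans (h p₀ hp₀ hx₀)⟩⟩

theorem count_iff (hX : IsAlgSpace X) (x : Points X) (n : ℕ) (hn : 1 ≤ n) :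
    (((∀ (U : Over S) (a : (yon S).obj U ⟶ X) (u : ↥U.left), RepWith @Etale a → Points.ofPt a u = x →
        (minimalPrimes ↥(U.left.presheaf.stalk u)).encard ≤ n) ∧
        HasAt (fun U u => (minimalPrimes ↥(U.presheaf.stalk u)).encard = n) X x) ↔
      (∀ (U : Over S) (a : (yon S).obj U ⟶ X) (u : ↥U.left), RepWith @Etale a → Points.ofPt a u = x →
        Brnch.numGeomBranchesAt U.left u = n)) ∧
    ((∀ (U : Over S) (a : (yon S).obj U ⟶ X) (u : ↥U.left), RepWith @Etale a → Points.ofPt a u = x →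
        Brnch.numGeomBranchesAt U.left u = n) ↔
      ∀ p : FieldPt X, p.IsGeometric → Points.mk p = x →
        (minimalPrimes ↥(OEtStalk p)).encard = n) := by
  obtain ⟨N, hN1, hN, hp, hb, hsup⟩ := exists_count hX x
  obtain ⟨U₀, a₀, u₀, ha₀, hu₀⟩ := exists_chart hX x
  obtain ⟨p₀, hp₀, hx₀⟩ := StalkSupport.exists_geometric_over hX x
  have h4 : (∀ (U : Over S) (a : (yon S).obj U ⟶ X) (u : ↥U.left), RepWith @Etale a →
      Points.ofPt a u = x → Brnch.numGeomBranchesAt U.left u = n) ↔ N = n :=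
    ⟨fun h => (hN U₀ a₀ u₀ ha₀ hu₀).symm.trans (h U₀ a₀ u₀ ha₀ hu₀),
      fun h U a u ha hu => (hN U a u ha hu).trans h⟩
  rw [h4]
  refine ⟨⟨fun ⟨h, U, a, u, ha, hu, he⟩ => le_antisymm (hsup n h) (he ▸ (hb U a u ha hu).2),
      fun h => ⟨fun U a u ha hu => (hb U a u ha hu).2.trans h.le, ?_⟩⟩,
    ⟨fun h p hpg hx => (hp p hpg hx).trans h,
      fun h => (hp p₀ hp₀ hx₀).symm.trans (h p₀ hp₀ hx₀)⟩⟩
  obtain ⟨m, rfl⟩ : ∃ m, n = m + 1 := ⟨n - 1, by omega⟩
  by_contra hne
  have hm : N ≤ m := hsup m fun U a u ha hu => by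
    have hle := (hb U a u ha hu).2.trans h.le
    by_contra hgt
    refine hne ⟨U, a, u, ha, hu, le_antisymm hle ?_⟩
    exact_mod_cast (ENat.add_one_le_iff (ENat.coe_ne_top m)).2 (not_le.1 hgt)
  rw [h] at hm
  exact absurd (Nat.cast_le.1 hm) (by omega)

end Groth.Agent.Stk19b.StalkBranches
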