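import Groth.Agent.HenselLib.HullProps
import Groth.Agent.HenselLib.PtPrime
import Groth.Prelude.Def_EtBase
import Mathlib.RingTheory.Flat.Localization

/-!
The hull of a ring at a geometric point, compared with the local ring at the underlying prime.
-/

set_option autoImplicit false
set_option linter.all false

universe u

open IsLocalRing Polynomial
open Groth.Agent.HenselLib

namespace Groth.Agent.Stk19b.HullGeom

variable {R : Type u} [CommRing R] {K : Type u} [Field K] [Algebra R K] (p : Ideal R) [p.IsPrime]
  (hp : RingHom.ker (algebraMap R K) = p)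
  (L : Type u) [CommRing L] [Algebra R L] [IsLocalization.AtPrime L p]

include hp in
theorem isUnit_algebraMap {s : R} (hs : s ∈ p.primeCompl) : IsUnit (algebraMap R (Hull R K) s) :=
  isUnit_of_isUnit_hullPt (by
    rw [AlgHom.commutes]
    exact Ne.isUnit fun h => hs (hp.le (RingHom.mem_ker.2 h)))

/-- The local ring maps to the hull. -/
noncomputable def toHull : L →+* Hull R K :=
  IsLocalization.lift (M := p.primeCompl) (g := algebraMap R (Hull R K))
    fun s => isUnit_algebraMap p hp s.2

theorem toHull_comp : (toHull p hp L).comp (algebraMap R L) = algebraMap R (Hull R K) :=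
  IsLocalization.lift_comp _

include hp in
theorem ker_eq : RingHom.ker (hullPt R K) = p.map (algebraMap R (Hull R K)) :=
  PtPrime.ker_hullPt_eq_map p hp

theorem setting : letI := (toHull p hp L).toAlgebra
    IsScalarTower R L (Hull R K) ∧ IsLocalHom (algebraMap L (Hull R K)) ∧
      Module.FaithfullyFlat L (Hull R K) := by
  letI := (toHull p hp L).toAlgebra
  have : IsScalarTower R L (Hull R K) :=
    .of_algebraMap_eq fun r => (RingHom.congr_fun (toHull_comp p hp L) r).symm
  have : IsLocalRing L := IsLocalization.AtPrime.isLocalRing L p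
  have : IsLocalRing (Hull R K) := isLocalRing_hull
  have hl : IsLocalHom (algebraMap L (Hull R K)) := ⟨fun x hx => by
    obtain ⟨⟨r, s⟩, h⟩ := IsLocalization.surj p.primeCompl x
    have hu : IsUnit (algebraMap R (Hull R K) r) := by
      rw [IsScalarTower.algebraMap_apply R L (Hull R K), ← h, map_mul]
      exact hx.mul ((IsLocalization.map_units L s).map _)
    have hr : r ∈ p.primeCompl := fun hr => by
      have : algebraMap R (Hull R K) r ∈ maximalIdeal (Hull R K) := by
        rw [maximalIdeal_hull, ker_eq p hp]
        exact Ideal.mem_map_of_mem _ hr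
      exact this hu
    exact isUnit_of_mul_isUnit_left (h ▸ IsLocalization.map_units L ⟨r, hr⟩)⟩
  have : Module.Flat L (Hull R K) :=
    (Module.flat_iff_of_isLocalization L p.primeCompl (Hull R K)).2 inferInstance
  exact ⟨inferInstance, hl, Module.FaithfullyFlat.of_flat_of_isLocalHom⟩

include hp in
theorem ringKrullDim_eq : ringKrullDim (Hull R K) = ringKrullDim L := by
  letI := (toHull p hp L).toAlgebra
  obtain ⟨_, _, _⟩ := setting p hp L
  refine le_antisymm ?_ (iSup_le fun l => ?_)
  · refine Order.krullDim_le_of_strictMono (PrimeSpectrum.comap (algebraMap L (Hull R K)))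
      fun q q' hlt => lt_of_le_of_ne (Ideal.comap_mono hlt.le) fun he => hlt.ne ?_
    refine PrimeSpectrum.ext (hull_eq_of_le_of_comap_eq hlt.le ?_)
    have h := congrArg (Ideal.comap (algebraMap R L)) congr(($he).asIdeal)
    simp only [PrimeSpectrum.comap_asIdeal, Ideal.comap_comap, ← IsScalarTower.algebraMap_eq] at h
    exact h
  · obtain ⟨P, hP⟩ := PrimeSpectrum.comap_surjective_of_faithfullyFlat (A := L) (B := Hull R K) l.last
    have : P.asIdeal.LiesOver l.last.asIdeal := ⟨congr(($hP).asIdeal).symm⟩
    obtain ⟨M, hM, -, -⟩ := Ideal.exists_ltSeries_of_hasGoingDown l P.asIdeal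
    rw [← hM]
    exact Order.LTSeries.length_le_krullDim M

include hp in
theorem isReduced_iff : IsReduced (Hull R K) ↔ IsReduced L := by
  letI := (toHull p hp L).toAlgebra
  obtain ⟨_, _, _⟩ := setting p hp L
  constructor
  · intro _
    exact isReduced_of_injective (algebraMap L (Hull R K)) (FaithfulSMul.algebraMap_injective _ _)
  · intro _
    refine nilradical_eq_bot_iff.mp ?_
    rw [← map_nilradical_hull, eq_bot_iff, Ideal.map_le_iff_le_comap]
    intro r hr
    have h0 : algebraMap R L r = 0 := IsNilpotent.eq_zero ((mem_nilradical.1 hr).map _)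
    rw [Ideal.mem_comap, IsScalarTower.algebraMap_apply R L (Hull R K), h0, map_zero]
    exact Submodule.zero_mem _

include hp in
theorem map_maximalIdeal : letI := (toHull p hp L).toAlgebra
    haveI := IsLocalization.AtPrime.isLocalRing L p
    haveI := isLocalRing_hull (R := R) (K := K)
    (maximalIdeal L).map (algebraMap L (Hull R K)) = maximalIdeal (Hull R K) := by
  letI := (toHull p hp L).toAlgebra
  obtain ⟨_, _, _⟩ := setting p hp L
  haveI := IsLocalization.AtPrime.isLocalRing L p
  haveI := isLocalRing_hull (R := R) (K := K)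
  rw [← IsLocalization.AtPrime.map_eq_maximalIdeal p L, Ideal.map_map, ← IsScalarTower.algebraMap_eq,
    maximalIdeal_hull, ker_eq p hp]

include hp in
theorem isNoetherianRing_iff : IsNoetherianRing (Hull R K) ↔ IsNoetherianRing L := by
  letI := (toHull p hp L).toAlgebra
  obtain ⟨_, _, _⟩ := setting p hp L
  constructor
  · intro _
    exact isNoetherianRing_of_faithfullyFlat L (Hull R K)
  · intro _
    haveI := IsLocalization.AtPrime.isLocalRing L p
    haveI := isLocalRing_hull (R := R) (K := K)
    set I := maximalIdeal L with hI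
    set J := I.map (algebraMap L (Hull R K)) with hJ
    have hJm : J = maximalIdeal (Hull R K) := map_maximalIdeal p hp L
    have : J.IsMaximal := hJm ▸ inferInstance
    have : IsNoetherianRing (Hull R K ⧸ J) := by
      let := Ideal.Quotient.field J
      infer_instance
    obtain ⟨hN, hflat⟩ := flat_adicCompletion (H := Hull R K) I
    set C := AdicCompletion J (Hull R K)
    haveI : IsScalarTower R L C := .of_algebraMap_eq fun r => by
      show algebraMap (Hull R K) C (algebraMap R (Hull R K) r) =
        algebraMap (Hull R K) C (algebraMap L (Hull R K) (algebraMap R L r))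
      exact congrArg _ (IsScalarTower.algebraMap_apply R L (Hull R K) r)
    haveI : Module.Flat R C := by
      have : Module.Flat R L := IsLocalization.flat L p.primeCompl
      exact Module.Flat.trans R L C
    have hH : Module.Flat (Hull R K) C := flat_of_flat_stages fun P => by
      let := ((algebraMap (Hull R K) C).comp (ι P).toRingHom).toAlgebra
      have : IsScalarTower R P.Ring C :=
        IsScalarTower.of_algebraMap_eq (R := R) (S := P.Ring) (A := C) fun r =>
          (congrArg (algebraMap (Hull R K) C) (AlgHom.commutes (ι P) r)).symm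
      exact flat_of_flat_of_etale (R := R)
    have hJfg : J.FG := Ideal.FG.map (IsNoetherian.noetherian I) _
    have : Module.FaithfullyFlat (Hull R K) C := { hH with
      submodule_ne_top := fun m hm h => by
        have hJle : J ≤ m := by rw [hJm, eq_maximalIdeal hm]
        have := AdicCompletion.isMaximal_map_of_le J m hJle hJfg
        refine this.ne_top ((Ideal.eq_top_iff_one _).mpr ?_)
        have h1 : (1 : C) ∈ m • (⊤ : Submodule (Hull R K) C) := by rw [h]; trivial
        rwa [Ideal.smul_top_eq_map] at h1 }
    exact isNoetherianRing_of_faithfullyFlat (Hull R K) C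

include hp in
theorem isRegularLocalRing_iff : IsRegularLocalRing (Hull R K) ↔ IsRegularLocalRing L := by
  letI := (toHull p hp L).toAlgebra
  obtain ⟨_, _, _⟩ := setting p hp L
  haveI := IsLocalization.AtPrime.isLocalRing L p
  haveI := isLocalRing_hull (R := R) (K := K)
  by_cases hL : IsNoetherianRing L
  · have := (isNoetherianRing_iff p hp L).2 hL
    exact (isRegularLocalRing_iff_of_flat (Hull R K) (map_maximalIdeal p hp L)
      (ringKrullDim_eq p hp L)).symm
  · refine ⟨fun h => absurd ?_ hL, fun h => absurd h.toIsNoetherian hL⟩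
    exact (isNoetherianRing_iff p hp L).1 h.toIsNoetherian

theorem isStrictlyHenselian [IsSepClosed K] : EtCoh.IsStrictlyHenselianLocalRing (Hull R K) := by
  have := henselianLocalRing_hull (R := R) (K := K)
  have : IsLocalHom (hullPt R K).toRingHom := isLocalHom_hullPt
  refine ⟨inferInstance, IsSepClosed.of_exists_root _ fun q hq hirr hsep => ?_⟩
  let ψ : ResidueField (Hull R K) →+* K := ResidueField.lift (hullPt R K).toRingHom
  have hψ : ψ.comp (residue (Hull R K)) = (hullPt R K).toRingHom := rfl
  obtain ⟨f, hfq, -, hf⟩ := lifts_and_degree_eq_and_monic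
    (map_surjective (residue (Hull R K)) residue_surjective q) hq
  obtain ⟨r, hr⟩ := IsSepClosed.exists_root (q.map ψ)
    (by rw [degree_map]; exact (degree_pos_of_irreducible hirr).ne') hsep.map
  obtain ⟨P, g, hg, hgf⟩ := exists_monic_rep f hf
  let E : StandardEtalePair P.Ring :=
    { f := g, monic_f := hg, g := derivative g, cond := ⟨1, 0, 1, by ring⟩ }
  letI : Algebra P.Ring K := P.pt.toRingHom.toAlgebra
  have : IsScalarTower R P.Ring K := IsScalarTower.of_algHom P.pt
  have hgq : g.map P.pt.toRingHom = q.map ψ := by
    rw [← hfq, ← hgf, Polynomial.map_map, Polynomial.map_map, hψ]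
    exact congrArg (fun φ => g.map φ) (RingHom.ext fun y => (hullPt_ι P y).symm)
  have hE : E.HasMap r := by
    refine ⟨?_, Ne.isUnit ?_⟩
    · rw [aeval_def, ← eval_map]
      show eval r (g.map P.pt.toRingHom) = 0
      rw [hgq]; exact hr
    · rw [aeval_def, ← eval_map]
      show eval r ((derivative g).map P.pt.toRingHom) ≠ 0
      rw [← derivative_map, hgq]
      intro h
      exact (hsep.map (f := ψ)).aeval_derivative_ne_zero (x := r) (by simpa [IsRoot] using hr)
        (by simpa using h)
  let τ : E.Ring →ₐ[P.Ring] K := E.lift r hE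
  letI : Algebra R E.Ring := ((algebraMap P.Ring E.Ring).comp (algebraMap R P.Ring)).toAlgebra
  haveI : IsScalarTower R P.Ring E.Ring :=
    IsScalarTower.of_algebraMap_eq (R := R) (S := P.Ring) (A := E.Ring) fun _ => rfl
  haveI : Algebra.Etale R E.Ring := Algebra.Etale.comp R P.Ring E.Ring
  obtain ⟨T, c, e, he, hc⟩ := P.exists_hom (τ.restrictScalars R)
    (IsScalarTower.toAlgHom R P.Ring E.Ring) (AlgHom.ext fun y => τ.commutes y)
  refine ⟨residue _ (ι T (e.symm E.X)), ψ.injective ?_⟩
  rw [map_zero, ← eval₂_at_apply]
  show eval₂ ψ (hullPt R K (ι T (e.symm E.X))) q = 0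
  rw [hullPt_ι, ← he, e.apply_symm_apply, ← eval_map]
  show eval (τ E.X) (q.map ψ) = 0
  rw [show τ E.X = r from E.lift_X r hE]
  exact hr

end Groth.Agent.Stk19b.HullGeom
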